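import Groth.Prelude.Def_CAlg
import Groth.Agent.DepthLib.CohenMacaulay
import Groth.Agent.DepthLib.RegularQuotient
import Groth.Agent.FlatDescent.Local
import Groth.Agent.Catenary.CM
import Mathlib.RingTheory.TensorProduct.Quotient

/-!
# Miracle flatness
-/

universe u

open IsLocalRing TensorProduct LocCoh

namespace Groth.Agent.Miracle

open DepthLib in
theorem isCohenMacaulayLocalRing_quotient {S : Type u} [CommRing S] [IsCohenMacaulayLocalRing S] {y : S}
    (hy : y ∈ maximalIdeal S) (hdim : ringKrullDim (S ⧸ Ideal.span {y}) + 1 ≤ ringKrullDim S) :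
    IsSMulRegular S y ∧ IsCohenMacaulayLocalRing (S ⧸ Ideal.span {y}) ∧
      ringKrullDim (S ⧸ Ideal.span {y}) + 1 = ringKrullDim S := by
  have hne : Ideal.span {y} ≠ ⊤ :=
    ne_top_of_le_ne_top (maximalIdeal.isMaximal S).ne_top ((Ideal.span_singleton_le_iff_mem _).mpr hy)
  have : Nontrivial (S ⧸ Ideal.span {y}) := Ideal.Quotient.nontrivial_iff.mpr hne
  have : IsLocalRing (S ⧸ Ideal.span {y}) := .of_surjective' (Ideal.Quotient.mk _) Ideal.Quotient.mk_surjective
  have e : QuotSMulTop y S ≃ₗ[S] S ⧸ Ideal.span {y} :=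
    Submodule.quotEquivOfEq _ _ (by rw [← Submodule.ideal_span_singleton_smul, smul_eq_mul, Ideal.mul_top])
  have hsd : Module.supportDim S (QuotSMulTop y S) = ringKrullDim (S ⧸ Ideal.span {y}) := by
    rw [Module.supportDim_eq_of_equiv e, Module.supportDim_eq_ringKrullDim_quotient_annihilator,
      Ideal.annihilator_quotient]
  have hM : IsCohenMacaulayModule S S := isCohenMacaulayModule_self
  have hreg : IsSMulRegular S y :=
    isSMulRegular_of_supportDim_drop hM (by rwa [hsd, Module.supportDim_self_eq_ringKrullDim])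
  refine ⟨hreg, ?_, ?_⟩
  · have h1 := (isCohenMacaulayModule_congr e).mp ((isCohenMacaulayModule_quotSMulTop_iff hy hreg).mpr hM)
    refine isCohenMacaulayLocalRing_iff.mpr (le_of_eq ?_)
    have h2 : depth (S ⧸ Ideal.span {y}) (S ⧸ Ideal.span {y}) = depth S (S ⧸ Ideal.span {y}) := by
      change idealDepth _ _ = idealDepth _ _
      rw [← idealDepth_map_of_surjective (I := maximalIdeal S) (M := S ⧸ Ideal.span {y})
        (S := S ⧸ Ideal.span {y}) Ideal.Quotient.mk_surjective]
      congr 1
      exact (map_maximalIdeal_of_surjective _ Ideal.Quotient.mk_surjective).symm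
    rw [h2, ← h1, Module.supportDim_eq_ringKrullDim_quotient_annihilator, Ideal.annihilator_quotient]
  · rw [← hsd, ← Module.supportDim_self_eq_ringKrullDim]
    exact Module.supportDim_quotSMulTop_succ_eq_supportDim hreg hy

theorem ringKrullDim_le_add {R S : Type u} [CommRing R] [CommRing S] [IsLocalRing R] [IsLocalRing S]
    [IsNoetherianRing R] [IsNoetherianRing S] [Algebra R S] [IsLocalHom (algebraMap R S)] :
    ringKrullDim S ≤ ringKrullDim R + ringKrullDim (S ⧸ (maximalIdeal R).map (algebraMap R S)) := by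
  have hne : (maximalIdeal R).map (algebraMap R S) ≠ ⊤ :=
    ne_top_of_le_ne_top (maximalIdeal.isMaximal S).ne_top (((local_hom_TFAE _).out 0 2).mp ‹_›)
  have : Nontrivial (S ⧸ (maximalIdeal R).map (algebraMap R S)) := Ideal.Quotient.nontrivial_iff.mpr hne
  have : IsLocalRing (S ⧸ (maximalIdeal R).map (algebraMap R S)) :=
    .of_surjective' (Ideal.Quotient.mk _) Ideal.Quotient.mk_surjective
  have hc : (maximalIdeal S).comap (algebraMap R S) = maximalIdeal R := ((local_hom_TFAE _).out 0 4).mp ‹_›
  have : (maximalIdeal S).LiesOver (maximalIdeal R) := ⟨hc.symm⟩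
  rw [← maximalIdeal_height_eq_ringKrullDim, ← maximalIdeal_height_eq_ringKrullDim,
    ← maximalIdeal_height_eq_ringKrullDim, ← map_maximalIdeal_of_surjective (Ideal.Quotient.mk
      ((maximalIdeal R).map (algebraMap R S))) Ideal.Quotient.mk_surjective, ← WithBot.coe_add, WithBot.coe_le_coe]
  exact Ideal.height_le_height_add_of_liesOver (maximalIdeal R) (maximalIdeal S)

/-- **Miracle flatness.** -/
theorem flat (n : ℕ) : ∀ {R S : Type u} [CommRing R] [CommRing S] [IsRegularLocalRing R]
    [IsCohenMacaulayLocalRing S] [Algebra R S] [IsLocalHom (algebraMap R S)],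
    (maximalIdeal R).spanFinrank = n →
    ringKrullDim S = ringKrullDim R + ringKrullDim (S ⧸ (maximalIdeal R).map (algebraMap R S)) →
    Module.Flat R S := by
  induction n with
  | zero =>
    intro R S _ _ _ _ _ _ hn _
    have hR : IsField R := isField_iff_maximalIdeal_eq.mpr
      ((Submodule.spanFinrank_eq_zero_iff_eq_bot (IsNoetherian.noetherian _)).mp hn)
    let _ := hR.toField
    infer_instance
  | succ n ih =>
    intro R S _ _ _ _ _ _ hn hdim
    obtain ⟨x, hx, hx2⟩ : ∃ x ∈ maximalIdeal R, x ∉ maximalIdeal R ^ 2 := by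
      by_contra h
      push Not at h
      have := Submodule.eq_bot_of_le_smul_of_le_jacobson_bot (maximalIdeal R) (maximalIdeal R)
        (IsNoetherian.noetherian _) (fun x hx => by rw [smul_eq_mul, ← pow_two]; exact h x hx)
        (maximalIdeal_le_jacobson ⊥)
      rw [this, Submodule.spanFinrank_bot] at hn
      omega
    obtain ⟨_, hn'⟩ := DepthLib.isRegularLocalRing_quotient_singleton hn hx hx2
    let I : Ideal R := Ideal.span {x}
    let T := (R ⧸ I) ⊗[R] S
    have hmap : I.map (algebraMap R S) = Ideal.span {algebraMap R S x} := by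
      rw [Ideal.map_span, Set.image_singleton]
    let e : T ≃+* S ⧸ Ideal.span {algebraMap R S x} :=
      (((Algebra.TensorProduct.comm R (R ⧸ I) S).toRingEquiv).trans
        (Algebra.TensorProduct.quotIdealMapEquivTensorQuot S I).symm.toRingEquiv).trans (Ideal.quotEquivOfEq hmap)
    have hy : algebraMap R S x ∈ maximalIdeal S := fun h => hx ((isUnit_map_iff (algebraMap R S) x).mp h)
    have hne : Ideal.span {algebraMap R S x} ≠ ⊤ :=
      ne_top_of_le_ne_top (maximalIdeal.isMaximal S).ne_top ((Ideal.span_singleton_le_iff_mem _).mpr hy)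
    have : Nontrivial (S ⧸ Ideal.span {algebraMap R S x}) := Ideal.Quotient.nontrivial_iff.mpr hne
    have hlS : IsLocalRing (S ⧸ Ideal.span {algebraMap R S x}) :=
      .of_surjective' (Ideal.Quotient.mk _) Ideal.Quotient.mk_surjective
    have hlT : IsLocalRing T := e.symm.isLocalRing
    have : IsNoetherianRing T := isNoetherianRing_of_ringEquiv _ e.symm
    let π : S →+* T := (Algebra.TensorProduct.includeRight : S →ₐ[R] T).toRingHom
    have hπ : Function.Surjective π := fun z => by
      induction z using TensorProduct.induction_on with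
      | zero => exact ⟨0, map_zero _⟩
      | add u v hu hv =>
        obtain ⟨a, rfl⟩ := hu; obtain ⟨b, rfl⟩ := hv; exact ⟨a + b, map_add _ _ _⟩
      | tmul c s =>
        obtain ⟨c, rfl⟩ := Ideal.Quotient.mk_surjective c
        refine ⟨c • s, ?_⟩
        change (1 : R ⧸ I) ⊗ₜ[R] (c • s) = _
        rw [← TensorProduct.smul_tmul, Algebra.smul_def, mul_one]
        rfl
    have hmaxT : maximalIdeal T = (maximalIdeal S).map π := (map_maximalIdeal_of_surjective π hπ).symm
    have hπR : ∀ r, π (algebraMap R S r) = algebraMap (R ⧸ I) T (Ideal.Quotient.mk I r) := fun r => by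
      rw [show π (algebraMap R S r) = algebraMap R T r from (Algebra.TensorProduct.includeRight).commutes r,
        IsScalarTower.algebraMap_apply R (R ⧸ I) T]
      rfl
    have hmR : maximalIdeal (R ⧸ I) = (maximalIdeal R).map (Ideal.Quotient.mk I) :=
      (map_maximalIdeal_of_surjective _ Ideal.Quotient.mk_surjective).symm
    have hfib : (maximalIdeal (R ⧸ I)).map (algebraMap (R ⧸ I) T) =
        ((maximalIdeal R).map (algebraMap R S)).map π := by
      rw [hmR, Ideal.map_map, Ideal.map_map]
      congr 1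
      exact RingHom.ext fun r => (hπR r).symm
    have hloc : IsLocalHom (algebraMap (R ⧸ I) T) := by
      refine ((local_hom_TFAE _).out 0 2).mpr ?_
      rw [hfib, hmaxT]
      exact Ideal.map_mono (((local_hom_TFAE _).out 0 2).mp ‹IsLocalHom (algebraMap R S)›)
    let J := (maximalIdeal R).map (algebraMap R S)
    have hkerπ : RingHom.ker π ≤ J := by
      intro s hs
      have h0 : e (π s) = 0 := by rw [RingHom.mem_ker.mp hs, map_zero]
      have h1 : e (π s) = Ideal.Quotient.mk _ s := by
        have h2 : (Algebra.TensorProduct.quotIdealMapEquivTensorQuot S I).symm (s ⊗ₜ[R] (1 : R ⧸ I)) =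
            Ideal.Quotient.mk _ s := by
          rw [AlgEquiv.symm_apply_eq, Algebra.TensorProduct.quotIdealMapEquivTensorQuot_mk]
        change Ideal.quotEquivOfEq hmap ((Algebra.TensorProduct.quotIdealMapEquivTensorQuot S I).symm
          (Algebra.TensorProduct.comm R (R ⧸ I) S ((1 : R ⧸ I) ⊗ₜ[R] s))) = _
        rw [Algebra.TensorProduct.comm_tmul, h2, Ideal.quotEquivOfEq_mk]
      rw [h1, Ideal.Quotient.eq_zero_iff_mem, ← hmap] at h0
      exact Ideal.map_mono ((Ideal.span_singleton_le_iff_mem _).mpr hx) h0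
    let ef : S ⧸ J ≃+* T ⧸ (maximalIdeal (R ⧸ I)).map (algebraMap (R ⧸ I) T) :=
      (Ideal.quotEquivOfEq (show J = RingHom.ker ((Ideal.Quotient.mk _).comp π) by
        rw [← RingHom.comap_ker, Ideal.mk_ker, hfib, Ideal.comap_map_of_surjective _ hπ, ← RingHom.ker_eq_comap_bot,
          sup_eq_left.mpr hkerπ])).trans
        (RingHom.quotientKerEquivOfSurjective (Ideal.Quotient.mk_surjective.comp hπ))
    have hRdim : ringKrullDim R = ringKrullDim (R ⧸ I) + 1 := by
      rw [← IsRegularLocalRing.spanFinrank_maximalIdeal, ← IsRegularLocalRing.spanFinrank_maximalIdeal, hn', hn]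
      rfl
    have hle := ringKrullDim_le_add (R := R ⧸ I) (S := T)
    have hef : ringKrullDim (S ⧸ J) = ringKrullDim (T ⧸ (maximalIdeal (R ⧸ I)).map (algebraMap (R ⧸ I) T)) :=
      @ringKrullDim_eq_of_ringEquiv (S ⧸ J) _ _ _ ef
    have he := ringKrullDim_eq_of_ringEquiv e
    rw [← hef, he] at hle
    have hdim' : ringKrullDim S = ringKrullDim (R ⧸ I) + ringKrullDim (S ⧸ J) + 1 := by
      rw [hdim, hRdim, add_right_comm]
    obtain ⟨hreg, hcm, hdrop⟩ := isCohenMacaulayLocalRing_quotient hy (by
      rw [hdim']; exact add_le_add hle le_rfl)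
    have : IsCohenMacaulayLocalRing T := Catenary.isCohenMacaulayLocalRing_of_ringEquiv e.symm
    have hflat : Module.Flat (R ⧸ I) T := by
      refine ih hn' ?_
      rw [← hef, he]
      exact DepthLib.withBot_add_one_cancel (hdrop.trans hdim')
    have hIS : I.map (algebraMap R S) ≤ Ideal.jacobson ⊥ := by
      rw [hmap, Ideal.span_singleton_le_iff_mem]
      exact maximalIdeal_le_jacobson ⊥ hy
    refine FlatDescent.flat_of_injective_of_flat_quotient I (S := S) (M := S) hIS ?_
    refine (injective_iff_map_eq_zero _).mpr fun z hz => ?_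
    obtain ⟨s, rfl⟩ : ∃ s : S, (⟨x, Ideal.mem_span_singleton_self x⟩ : I) ⊗ₜ[R] s = z := by
      clear hz
      induction z with
      | zero => exact ⟨0, tmul_zero _ _⟩
      | add u v hu hv =>
        obtain ⟨a, rfl⟩ := hu; obtain ⟨b, rfl⟩ := hv; exact ⟨a + b, tmul_add _ _ _⟩
      | tmul i s =>
        obtain ⟨r, hr⟩ := Ideal.mem_span_singleton'.mp i.2
        refine ⟨r • s, ?_⟩
        rw [tmul_smul, TensorProduct.smul_tmul']
        congr 1
        exact Subtype.ext hr
    rw [LinearMap.rTensor_tmul] at hz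
    have h2 := congrArg (TensorProduct.lid R S) hz
    rw [TensorProduct.lid_tmul, map_zero, Submodule.coe_subtype, Algebra.smul_def] at h2
    rw [hreg (show algebraMap R S x • s = algebraMap R S x • (0 : S) by rw [smul_eq_mul, h2, smul_zero]), tmul_zero]

end Groth.Agent.Miracle
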